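import Cfsg.Agent.Lib.CoprimeHHS.Basic
import Cfsg.Agent.Lib.Involutions.Basic
import Cfsg.Agent.Lib.Solvable.Fitting
import Cfsg.Agent.Lib.Transfer.Basic

/-!
An automorphism `s` of coprime order fixing every element of the centralizer of an involution acts
trivially modulo the largest normal subgroup of odd order: definitions and general lemmas.
-/

set_option autoImplicit false

namespace Cfsg.Agent.CentInvol

open CoprimeHHS
open scoped Pointwise

variable {G : Type*} [Group G]

/-- An involution whose centralizer is fixed elementwise by `s`. -/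
def Special (s : MulAut G) (u : G) : Prop :=
  orderOf u = 2 ∧ ∀ c : G, Commute c u → s c = c

/-- `s` acts trivially modulo the odd core. -/
def Trivial (G : Type*) [Group G] (s : MulAut G) : Prop :=
  ∀ g : G, g⁻¹ * s g ∈ Cfsg.pPrimeCore 2 G

variable [Finite G] {r : ℕ} {s : MulAut G}

theorem eq_one_of_pow (h : Cop r s) {c : G} (hc : c ^ r = 1) : c = 1 := by
  by_contra hne
  exact h.ndvd ((orderOf_eq_prime_iff (hp := ⟨h.prime⟩)).2 ⟨hc, hne⟩ ▸ orderOf_dvd_natCard c)

/-- A fixed displacement is trivial. -/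
theorem fix_of_disp (h : Cop r s) {g : G} (hc : s (g⁻¹ * s g) = g⁻¹ * s g) : s g = g := by
  obtain ⟨c, hcdef⟩ : ∃ c, c = g⁻¹ * s g := ⟨_, rfl⟩
  rw [← hcdef] at hc
  have hg : s g = g * c := by rw [hcdef, mul_inv_cancel_left]
  have hpow : ∀ n : ℕ, (s ^ n) g = g * c ^ n := by
    intro n
    induction n with
    | zero => simp
    | succ n ih => rw [pow_succ', MulAut.mul_apply, ih, map_mul, map_pow, hc, hg, mul_assoc, ← pow_succ']
  have h1 := hpow r
  rw [h.pow_eq, MulAut.one_apply] at h1
  rw [hg, eq_one_of_pow h (mul_eq_left.1 h1.symm), mul_one]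

namespace Special

/-- A special involution is fixed. -/
theorem fixes {u : G} (hu : Special s u) : s u = u := hu.2 u (Commute.refl u)

theorem mem {u : G} (hu : Special s u) : u ∈ fixed s := hu.fixes

/-- A special involution is conjugate into the fixed points only by fixed points. -/
theorem fix_of_conj (h : Cop r s) {u g : G} (hu : Special s u) (hg : s (g * u * g⁻¹) = g * u * g⁻¹) :
    s g = g := by
  refine fix_of_disp h (hu.2 _ ?_)
  rw [map_mul, map_mul, map_inv, hu.fixes] at hg
  show g⁻¹ * s g * u = u * (g⁻¹ * s g)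
  have : g⁻¹ * s g * u * (s g)⁻¹ * g = u := by
    rw [show g⁻¹ * s g * u * (s g)⁻¹ * g = g⁻¹ * (s g * u * (s g)⁻¹) * g by group, hg]; group
  calc g⁻¹ * s g * u = (g⁻¹ * s g * u * (s g)⁻¹ * g) * (g⁻¹ * s g) := by group
    _ = u * (g⁻¹ * s g) := by rw [this]

/-- Conjugates by fixed elements are special. -/
theorem conj {u k : G} (hu : Special s u) (hk : s k = k) : Special s (k * u * k⁻¹) := by
  refine ⟨by rw [Invol.order_conj, hu.1], fun c hc => ?_⟩
  have h1 : Commute (k⁻¹ * c * k) u := by
    show k⁻¹ * c * k * u = u * (k⁻¹ * c * k)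
    calc k⁻¹ * c * k * u = k⁻¹ * (c * (k * u * k⁻¹)) * k := by group
      _ = k⁻¹ * (k * u * k⁻¹ * c) * k := by rw [hc.eq]
      _ = u * (k⁻¹ * c * k) := by group
  have h2 := hu.2 _ h1
  rw [map_mul, map_mul, map_inv, hk] at h2
  exact mul_left_cancel (mul_right_cancel h2)

theorem of_conj_mem (h : Cop r s) {u g : G} (hu : Special s u) (hg : s (g * u * g⁻¹) = g * u * g⁻¹) :
    Special s (g * u * g⁻¹) :=
  hu.conj (hu.fix_of_conj h hg)

end Special

/-- A coset of an invariant subgroup stable under `s` contains a fixed element. -/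
theorem exists_fixed_coset (h : Cop r s) {C : Subgroup G} (hC : Inv s C) {g : G}
    (hg : g * (s g)⁻¹ ∈ C) : ∃ c ∈ C, s (c * g) = c * g := by
  haveI : Finite (MulAut G) := Finite.of_injective _ MulEquiv.toEquiv_injective
  have hB : MulAut.conj (base s g) • actor s ≤ C.map (base s) ⊔ actor s := by
    intro b hb
    rw [SolvBasic.mem_conjSmul] at hb
    obtain ⟨a, ha⟩ := hb
    have hb' : b = base s g * SemidirectProduct.inr a * (base s g)⁻¹ := by rw [ha]; group
    have hfac : base s g * SemidirectProduct.inr a * (base s g)⁻¹ =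
        base s (g * ((a : MulAut G) g)⁻¹) * SemidirectProduct.inr a := by
      rw [map_mul, map_inv, ← actor_conj]; group
    rw [hb', hfac]
    refine mul_mem (Subgroup.mem_sup_left ⟨_, ?_, rfl⟩) (Subgroup.mem_sup_right ⟨a, rfl⟩)
    obtain ⟨n, hn⟩ := mem_powers_iff_mem_zpowers.2 a.2
    simp only at hn
    rw [← hn]
    clear hn hfac hb' ha
    induction n with
    | zero => simp
    | succ n ih =>
      have : g * ((s ^ (n + 1)) g)⁻¹ = g * (s g)⁻¹ * s (g * ((s ^ n) g)⁻¹) := by
        rw [pow_succ', MulAut.mul_apply, map_mul, map_inv]; group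
      rw [this]
      exact mul_mem hg (hC _ ih)
  obtain ⟨n, hn, hnA⟩ := SchurZ.conj_in (actor_le_normalizer hC) (coprime_actor h C)
    (Or.inl solvable_actor) hB (SolvBasic.card_conjSmul _ _)
  obtain ⟨c, hc, rfl⟩ := hn
  refine ⟨c⁻¹, inv_mem hc, mem_centralizer_actor.1 ?_⟩
  refine SchurZ.mem_centralizer_of_mem_normalizer (K := (⊤ : Subgroup G).map (base s))
    (actor_le_normalizer Inv.top) (SchurZ.inf_eq_bot (coprime_actor h ⊤)) ⟨_, trivial, rfl⟩ ?_
  rw [SolvBasic.mem_normalizer_iff_conjSmul, map_mul, map_inv, ← SolvBasic.conjSmul_conjSmul, ← hnA,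
    SolvBasic.conjSmul_inv_conjSmul]

/-- Two fixed tuples conjugate in the group are conjugate by a fixed element. -/
theorem fusion (h : Cop r s) {P : Set G} {g : G} (hP : ∀ p ∈ P, s p = p)
    (hg : ∀ p ∈ P, s (g⁻¹ * p * g) = g⁻¹ * p * g) :
    ∃ c, (∀ p ∈ P, Commute c p) ∧ s (c * g) = c * g := by
  have hC : Inv s (Subgroup.centralizer P) := by
    intro x hx
    rw [Subgroup.mem_centralizer_iff] at hx ⊢
    intro p hp
    rw [← hP p hp, ← map_mul, ← map_mul, hx p hp]
  obtain ⟨c, hc, hcg⟩ := exists_fixed_coset h hC (g := g) (by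
    rw [Subgroup.mem_centralizer_iff]
    intro p hp
    have h1 := hg p hp
    rw [map_mul, map_mul, map_inv, hP p hp] at h1
    calc p * (g * (s g)⁻¹) = g * (g⁻¹ * p * g) * (s g)⁻¹ := by group
      _ = g * ((s g)⁻¹ * p * s g) * (s g)⁻¹ := by rw [h1]
      _ = g * (s g)⁻¹ * p := by group)
  exact ⟨c, fun p hp => ((Subgroup.mem_centralizer_iff.1 hc) p hp).symm, hcg⟩

end Cfsg.Agent.CentInvol
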