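import Cfsg.Agent.Lib.CentInvol.Setup

/-!
The order-formula count: in a minimal counterexample every fixed involution is special.
-/

set_option autoImplicit false

namespace Cfsg.Agent.CentInvol

open CoprimeHHS

variable {G : Type*} [Group G]

/-- The central involution of the dihedral group of two involutions with product of even order. -/
noncomputable def zOf (u x : G) : G := (u * x) ^ (orderOf (u * x) / 2)

theorem pow_mul_mem {O : Subgroup G} {d e : G} (hd : d ∈ Subgroup.normalizer (O : Set G)) (he : e ∈ O)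
    (n : ℕ) : ∃ e' ∈ O, (d * e) ^ n = d ^ n * e' := by
  induction n with
  | zero => exact ⟨1, one_mem _, by simp⟩
  | succ n ih =>
    obtain ⟨e', he', hpow⟩ := ih
    refine ⟨(d⁻¹ * e' * d) * e, mul_mem ?_ he, ?_⟩
    · have := (Subgroup.mem_normalizer_iff.1 (inv_mem hd) e').1 he'
      simpa using this
    · rw [pow_succ, hpow, pow_succ]; group

variable [Finite G]

theorem commute_zOf {u x : G} (hu : orderOf u = 2) (hx : orderOf x = 2) (h : Even (orderOf (u * x))) :
    orderOf (zOf u x) = 2 ∧ Commute (zOf u x) u ∧ Commute (zOf u x) x :=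
  ⟨Invol.half_order hu hx h (orderOf_pos _), Invol.half_commute hu hx h⟩

theorem even_of_not_conj {u x : G} (hu : orderOf u = 2) (hx : orderOf x = 2) (h : ¬ IsConj u x) :
    Even (orderOf (u * x)) := by
  by_contra hodd
  obtain ⟨d, -, hd⟩ := Invol.conj_of_odd hu hx (Nat.not_even_iff_odd.1 hodd)
  exact h (isConj_iff.2 ⟨d, hd⟩)

/-- Changing one involution by an element of an odd normal part does not change the central one. -/
theorem zOf_conj {u x o : G} {O : Subgroup G} (hu : orderOf u = 2) (hx : orderOf x = 2)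
    (hev : Even (orderOf (u * x))) (hev' : Even (orderOf (u * (o⁻¹ * x * o))))
    (hodd : Odd (Nat.card O)) (hn : Subgroup.centralizer {zOf u x} ≤ Subgroup.normalizer (O : Set G))
    (hO : O ≤ Subgroup.centralizer {zOf u x}) (ho : o ∈ O) :
    zOf u (o⁻¹ * x * o) = zOf u x := by
  obtain ⟨hz, hzu, hzx⟩ := commute_zOf hu hx hev
  set z := zOf u x with hzdef
  set d := u * x with hd
  have hzd : Commute z d := hzu.mul_right hzx
  have hdn : d ∈ Subgroup.normalizer (O : Set G) :=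
    hn (Subgroup.mem_centralizer_singleton_iff.2 hzd.eq.symm)
  have hxn : x ∈ Subgroup.normalizer (O : Set G) :=
    hn (Subgroup.mem_centralizer_singleton_iff.2 hzx.eq.symm)
  have he : x⁻¹ * o⁻¹ * x * o ∈ O :=
    mul_mem (by simpa using (Subgroup.mem_normalizer_iff.1 (inv_mem hxn) o⁻¹).1 (inv_mem ho)) ho
  set e := x⁻¹ * o⁻¹ * x * o with hedef
  have hd' : u * (o⁻¹ * x * o) = d * e := by rw [hd, hedef]; group
  have hx' : orderOf (o⁻¹ * x * o) = 2 := by
    have := Invol.order_conj o⁻¹ x; rw [inv_inv] at this; rw [this, hx]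
  obtain ⟨hz2, -, -⟩ := commute_zOf hu hx' hev'
  rw [zOf, hd'] at hz2
  rw [zOf, hd']
  set j := orderOf (d * e) / 2 with hj
  obtain ⟨e1, he1, hpow⟩ := pow_mul_mem hdn he j
  have hzo : ∀ y ∈ O, Commute z y := fun y hy => (Subgroup.mem_centralizer_singleton_iff.1 (hO hy)).symm
  have hcomz : Commute z ((d * e) ^ j) := ((hzd).mul_right (hzo e he)).pow_right j
  -- the square
  have hd2 : d ^ (2 * j) ∈ O := by
    obtain ⟨e2, he2, hpow2⟩ := pow_mul_mem hdn he (2 * j)
    have h1 : (d * e) ^ (2 * j) = 1 := by rw [mul_comm, pow_mul, pow_two, Invol.mul_self hz2]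
    rw [h1] at hpow2
    rw [eq_inv_of_mul_eq_one_left hpow2.symm]
    exact inv_mem he2
  set m := Nat.card O with hm
  have hdvd : orderOf d ∣ 2 * j * m := orderOf_dvd_of_pow_eq_one (by
    rw [pow_mul]
    exact congrArg Subtype.val (pow_card_eq_one' (x := (⟨_, hd2⟩ : O))))
  obtain ⟨k, hk⟩ := hev
  have hk' : orderOf d / 2 = k := by omega
  have hkdvd : k ∣ j * m := by
    rw [hk] at hdvd
    exact (Nat.mul_dvd_mul_iff_left (a := 2) (by norm_num)).1 (by rw [two_mul, ← mul_assoc]; exact hdvd)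
  obtain ⟨q, hq⟩ := hkdvd
  have hdjm : d ^ (j * m) = z ^ q := by rw [hq, pow_mul, hzdef, zOf, ← hd, hk']
  have hzm : ((d * e) ^ j) ^ m = (d * e) ^ j := by
    obtain ⟨a, ha⟩ := hodd
    rw [ha, pow_succ, pow_mul, pow_two, Invol.mul_self hz2, one_pow, one_mul]
  obtain ⟨e3, he3, hpow3⟩ := pow_mul_mem hdn he (j * m)
  rw [pow_mul, hzm, hdjm] at hpow3
  rcases Nat.even_or_odd' q with ⟨a, rfl | rfl⟩
  · exfalso
    rw [pow_mul, pow_two, Invol.mul_self hz, one_pow, one_mul] at hpow3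
    rw [hpow3] at hz2
    have := Subgroup.orderOf_coe (⟨e3, he3⟩ : O) ▸ hz2
    exact absurd (this ▸ orderOf_dvd_natCard (⟨e3, he3⟩ : O)) (fun h => Nat.not_even_iff_odd.2 hodd (even_iff_two_dvd.2 h))
  · rw [pow_succ, pow_mul, pow_two, Invol.mul_self hz, one_pow, one_mul] at hpow3
    have h1 : e3 * e3 = 1 := by
      have h2 := Invol.mul_self hz2
      rw [hpow3] at h2
      calc e3 * e3 = z * z * (e3 * e3) := by rw [Invol.mul_self hz, one_mul]
        _ = z * e3 * (z * e3) := ((hzo e3 he3).symm.mul_mul_mul_comm _ _).symm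
        _ = 1 := h2
    have h3 : e3 = 1 := Invol.eq_one_of_sq_of_odd
      (hodd.of_dvd_nat (Subgroup.orderOf_coe (⟨e3, he3⟩ : O) ▸ orderOf_dvd_natCard _)) (by rw [pow_two, h1])
    rw [hpow3, h3, mul_one]

namespace Min

variable {r : ℕ} {s : MulAut G} {t : G} (M : Min G r s t)
include M

theorem not_conj_special {u l x : G} (hu : Special s u) (hls : s l = l) (hlns : ¬ Special s l)
    (hx : ∃ h, x = h * l * h⁻¹) : ¬ IsConj u x := by
  intro hc
  obtain ⟨h, rfl⟩ := hx
  obtain ⟨g, hg⟩ := isConj_iff.1 hc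
  have he : (h⁻¹ * g) * u * (h⁻¹ * g)⁻¹ = l := by
    rw [show (h⁻¹ * g) * u * (h⁻¹ * g)⁻¹ = h⁻¹ * (g * u * g⁻¹) * h by group, hg]; group
  exact hlns (he ▸ hu.of_conj_mem M.cop (by rw [he]; exact hls))

/-- Over a point, a fibre of the count is no larger than over the base point. -/
theorem fibre_le {u v l : G} (hu : Special s u) (hl : orderOf l = 2) (hls : s l = l)
    (hlns : ¬ Special s l) (hv : Special s v) (hlv : Commute l v) (g z : G) :
    Nat.card {x : G // (∃ h, x = h * l * h⁻¹) ∧ s (g⁻¹ * x * g) = g⁻¹ * x * g ∧ zOf u x = z} ≤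
      Nat.card {x : G // (∃ h, x = h * l * h⁻¹) ∧ s x = x ∧ zOf u x = z} := by
  classical
  rcases isEmpty_or_nonempty
    {x : G // (∃ h, x = h * l * h⁻¹) ∧ s (g⁻¹ * x * g) = g⁻¹ * x * g ∧ zOf u x = z} with he | ⟨⟨x0, hx0, hx0f, hx0z⟩⟩
  · rw [Nat.card_of_isEmpty]; exact Nat.zero_le _
  have hxo : ∀ x : G, (∃ h, x = h * l * h⁻¹) → orderOf x = 2 ∧ Even (orderOf (u * x)) := by
    intro x hx
    obtain ⟨h, rfl⟩ := hx
    exact ⟨by rw [Invol.order_conj, hl], even_of_not_conj hu.1 (by rw [Invol.order_conj, hl])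
      (M.not_conj_special hu hls hlns ⟨h, rfl⟩)⟩
  obtain ⟨hz, hzu, hzx0⟩ := commute_zOf hu.1 (hxo x0 hx0).1 (hxo x0 hx0).2
  rw [hx0z] at hz hzu hzx0
  have hzs : s z = z := hu.2 z hzu
  obtain ⟨Oz, hOzc, hOzi, hOzn, hOzodd, hOzd⟩ := M.cent_core hz hzs hu hzu
  -- the fibre moved to the base point
  set P : Set G := {p | ∃ x, (∃ h, x = h * l * h⁻¹) ∧ s (g⁻¹ * x * g) = g⁻¹ * x * g ∧ zOf u x = z ∧ p = g⁻¹ * x * g}
    with hP
  have hPfix : ∀ p ∈ P, s p = p := by rintro p ⟨x, -, hf, -, rfl⟩; exact hf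
  have hl2P : g⁻¹ * x0 * g ∈ P := ⟨x0, hx0, hx0f, hx0z, rfl⟩
  obtain ⟨l2, hl2⟩ : ∃ l2, l2 = g⁻¹ * x0 * g := ⟨_, rfl⟩
  rw [← hl2] at hl2P
  have hl2ord : orderOf l2 = 2 := by
    have := Invol.order_conj g⁻¹ x0; rw [inv_inv, (hxo x0 hx0).1] at this; rw [hl2, this]
  obtain ⟨v2, hv2, hl2v2⟩ : ∃ v2, Special s v2 ∧ Commute l2 v2 := by
    obtain ⟨h, hh⟩ := hx0
    obtain ⟨c, hcl, hc⟩ := fusion M.cop (P := {l}) (g := (g⁻¹ * h)⁻¹) (by rintro p rfl; exact hls) (by
      rintro p hp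
      rw [Set.mem_singleton_iff] at hp
      subst hp
      rw [inv_inv, show g⁻¹ * h * p * (g⁻¹ * h)⁻¹ = g⁻¹ * (h * p * h⁻¹) * g by group, ← hh]
      exact hx0f)
    obtain ⟨k, hk⟩ : ∃ k, k = c * (g⁻¹ * h)⁻¹ := ⟨_, rfl⟩
    rw [← hk] at hc
    have hcl' : c⁻¹ * l * c = l := by rw [mul_assoc, ← (hcl l rfl).eq, inv_mul_cancel_left]
    have he : l2 = k⁻¹ * l * k⁻¹⁻¹ := by
      calc l2 = g⁻¹ * h * l * (g⁻¹ * h)⁻¹ := by rw [hl2, hh]; group
        _ = g⁻¹ * h * (c⁻¹ * l * c) * (g⁻¹ * h)⁻¹ := by rw [hcl']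
        _ = k⁻¹ * l * k⁻¹⁻¹ := by rw [hk]; group
    refine ⟨k⁻¹ * v * k⁻¹⁻¹, hv.conj (by rw [map_inv, hc]), ?_⟩
    rw [he]
    exact hlv.map (MulAut.conj k⁻¹).toMonoidHom
  obtain ⟨O2, hO2c, hO2i, hO2n, hO2odd, hO2d⟩ := M.cent_core hl2ord (hPfix l2 hl2P) hv2 hl2v2
  set C := Subgroup.centralizer P with hCdef
  have hCi : Inv s C := by
    intro y hy
    rw [hCdef, Subgroup.mem_centralizer_iff] at hy ⊢
    intro p hp
    rw [← hPfix p hp, ← map_mul, ← map_mul, hy p hp]
  have hCl2 : C ≤ Subgroup.centralizer {l2} :=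
    Subgroup.centralizer_le (Set.singleton_subset_iff.2 hl2P)
  have hNn : C ≤ Subgroup.normalizer ((O2 ⊓ C : Subgroup G) : Set G) :=
    (le_inf (hCl2.trans hO2n) Subgroup.le_normalizer).trans Subgroup.inf_normalizer_le_normalizer_inf
  -- the common fixed points
  set Y : Set (G ⧸ fixed s) := {q | ∀ p ∈ P, p • q = q} with hY
  have hmk : ∀ (p h : G), p • ((h : G) : G ⧸ fixed s) = ((h : G) : G ⧸ fixed s) ↔
      s (h⁻¹ * p * h) = h⁻¹ * p * h := by
    intro p h
    rw [MulAction.Quotient.smul_coe]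
    rw [eq_comm, QuotientGroup.eq, mem_fixed, smul_eq_mul, ← mul_assoc]
  have hYorb : Y = MulAction.orbit (O2 ⊓ C : Subgroup G) ((1 : G) : G ⧸ fixed s) := by
    apply Set.eq_of_subset_of_subset
    · intro q hq
      obtain ⟨h, rfl⟩ := QuotientGroup.mk_surjective q
      obtain ⟨c, hc, hcf⟩ := fusion M.cop (g := h) hPfix fun p hp => (hmk p h).1 (hq p hp)
      have hcC : c⁻¹ ∈ C := inv_mem (Subgroup.mem_centralizer_iff.2 fun p hp => (hc p hp).symm.eq)
      obtain ⟨o, ho, k, -, hk, hok⟩ := HasCore.decomp M.cop hCi inf_le_right (Inv.inf hO2i hCi) hNn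
        (fun y hy => ⟨hO2d y (Subgroup.mem_centralizer_singleton_iff.1 (hCl2 hy)),
          C.mul_mem (C.inv_mem hy) (hCi y hy)⟩) hcC
      refine ⟨⟨o, ho⟩, ?_⟩
      show ((o * 1 : G) : G ⧸ fixed s) = (h : G ⧸ fixed s)
      rw [QuotientGroup.eq, mul_one, show o⁻¹ * h = o⁻¹ * c⁻¹ * (c * h) by group, hok, inv_mul_cancel_left]
      exact mul_mem hk hcf
    · rintro _ ⟨⟨o, -, hoC⟩, rfl⟩ p hp
      show p • ((o * 1 : G) : G ⧸ fixed s) = ((o * 1 : G) : G ⧸ fixed s)
      rw [hmk, mul_one, mul_assoc, Subgroup.mem_centralizer_iff.1 hoC p hp, inv_mul_cancel_left]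
      exact hPfix p hp
  have hYodd : ¬ 2 ∣ Nat.card Y := by
    rw [hYorb, Nat.card_coe_set_eq, ← MulAction.index_stabilizer, ← even_iff_two_dvd]
    exact Nat.not_even_iff_odd.2
      ((hO2odd.of_dvd_nat (Subgroup.card_dvd_of_le inf_le_left)).of_dvd_nat (Subgroup.index_dvd_card _))
  -- `z` moved to the base point acts on them
  obtain ⟨w, hw⟩ : ∃ w, w = g⁻¹ * z * g := ⟨_, rfl⟩
  have hwP : ∀ p ∈ P, Commute w p := by
    rintro p ⟨x, hx, -, hxz, rfl⟩
    obtain ⟨-, -, hzx⟩ := commute_zOf hu.1 (hxo x hx).1 (hxo x hx).2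
    rw [hxz] at hzx
    rw [hw]
    simpa using hzx.map (MulAut.conj g⁻¹).toMonoidHom
  have hwY : ∀ q ∈ Y, w • q ∈ Y := by
    intro q hq p hp
    rw [← mul_smul, ← (hwP p hp).eq, mul_smul, hq p hp]
  have hw2 : w * w = 1 := by rw [hw]; simp [mul_assoc, ← mul_assoc z z, Invol.mul_self hz]
  letI := Fintype.ofFinite Y
  rw [Nat.card_eq_fintype_card] at hYodd
  let σ : Equiv.Perm Y := Function.Involutive.toPerm (fun q => (⟨w • q.1, hwY q.1 q.2⟩ : Y))
    (fun q => Subtype.ext (by simp [← mul_smul, hw2]))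
  obtain ⟨⟨q, hq⟩, hfix⟩ := Equiv.Perm.exists_fixed_point_of_prime (hp := ⟨Nat.prime_two⟩) (n := 1)
    hYodd (σ := σ) (Equiv.ext fun q => Subtype.ext (by
      show w • (w • q.1) = q.1
      rw [← mul_smul, hw2, one_smul]))
  have hwq : w • q = q := congrArg Subtype.val hfix
  obtain ⟨h, rfl⟩ := QuotientGroup.mk_surjective q
  -- a common fixed point of the fibre among those of `z`
  have hzfix : s ((g * h)⁻¹ * z * (g * h)) = (g * h)⁻¹ * z * (g * h) := by
    have := (hmk w h).1 hwq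
    rw [hw] at this
    rwa [show (g * h)⁻¹ * z * (g * h) = h⁻¹ * (g⁻¹ * z * g) * h by group]
  obtain ⟨c, hc, hcf⟩ := fusion M.cop (P := {z}) (g := g * h) (by rintro p rfl; exact hzs)
    (by rintro p rfl; exact hzfix)
  have hcz : Commute c z := hc z rfl
  obtain ⟨o, ho, k, -, hk, hok⟩ := HasCore.decomp M.cop (M.inv_centralizer hzs) hOzc hOzi hOzn
    (fun y hy => hOzd y (Subgroup.mem_centralizer_singleton_iff.1 hy))
    (inv_mem (Subgroup.mem_centralizer_singleton_iff.2 hcz.eq))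
  have hoxo : ∀ x, (∃ h, x = h * l * h⁻¹) → s (g⁻¹ * x * g) = g⁻¹ * x * g → zOf u x = z →
      s (o⁻¹ * x * o) = o⁻¹ * x * o := by
    intro x hx hxf hxz
    have h1 := (hmk _ h).1 (hq _ ⟨x, hx, hxf, hxz, rfl⟩)
    have e : o⁻¹ * x * o = k * (c * (g * h)) * (h⁻¹ * (g⁻¹ * x * g) * h) * (k * (c * (g * h)))⁻¹ := by
      have : k = o⁻¹ * c⁻¹ := by rw [hok, inv_mul_cancel_left]
      rw [this]; group
    rw [e, map_mul, map_mul, map_inv, map_mul, hk, hcf, h1]
  refine Nat.card_le_card_of_injective (fun x => ⟨o⁻¹ * x.1 * o, ?_, hoxo _ x.2.1 x.2.2.1 x.2.2.2, ?_⟩)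
    fun a b hab => Subtype.ext (by simpa using congrArg Subtype.val hab)
  · obtain ⟨h', hh'⟩ := x.2.1
    exact ⟨o⁻¹ * h', by rw [hh']; group⟩
  · have hx2 := hxo _ x.2.1
    have hx' : ∃ h', o⁻¹ * x.1 * o = h' * l * h'⁻¹ := by
      obtain ⟨h', hh'⟩ := x.2.1
      exact ⟨o⁻¹ * h', by rw [hh']; group⟩
    have e := x.2.2.2
    rw [zOf_conj (O := Oz) hu.1 hx2.1 hx2.2 (hxo _ hx').2 hOzodd (by rw [e]; exact hOzn) (by rw [e]; exact hOzc) ho, e]

/-- A class member with a special central involution over `u` cannot exist. -/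
theorem key {u v l l' : G} (hu : Special s u) (hl : orderOf l = 2) (hls : s l = l)
    (hlns : ¬ Special s l) (hv : Special s v) (hlv : Commute l v) (hl' : ∃ h, l' = h * l * h⁻¹)
    (hl's : s l' = l') (hsp : Special s (zOf u l')) : False := by
  classical
  letI := Fintype.ofFinite G
  let A : G → Finset G := fun g =>
    Finset.univ.filter fun x => (∃ h, x = h * l * h⁻¹) ∧ s (g⁻¹ * x * g) = g⁻¹ * x * g
  let B : Finset G := Finset.univ.filter fun x => (∃ h, x = h * l * h⁻¹) ∧ s x = x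
  have hAB : ∀ g, (A g).card = B.card := by
    intro g
    refine Finset.card_bij' (fun x _ => g⁻¹ * x * g) (fun y _ => g * y * g⁻¹) ?_ ?_ ?_ ?_
    · intro x hx
      obtain ⟨⟨h, hh⟩, hf⟩ := (Finset.mem_filter.1 hx).2
      exact Finset.mem_filter.2 ⟨Finset.mem_univ _, ⟨g⁻¹ * h, by rw [hh]; group⟩, hf⟩
    · intro y hy
      obtain ⟨⟨h, hh⟩, hf⟩ := (Finset.mem_filter.1 hy).2
      exact Finset.mem_filter.2 ⟨Finset.mem_univ _, ⟨g * h, by rw [hh]; group⟩,
        by rw [show g⁻¹ * (g * y * g⁻¹) * g = y by group]; exact hf⟩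
    · intro x _; group
    · intro y _; group
  refine Invol.ne_one (G := G) (t := l') (by obtain ⟨h, rfl⟩ := hl'; rw [Invol.order_conj, hl])
    (M.conj_free fun g => ?_)
  have hle : ∀ z, ((A g⁻¹).filter fun x => zOf u x = z).card ≤ (B.filter fun x => zOf u x = z).card := by
    intro z
    have := M.fibre_le hu hl hls hlns hv hlv g⁻¹ z
    rw [Nat.card_eq_fintype_card, Nat.card_eq_fintype_card, Fintype.card_subtype, Fintype.card_subtype] at this
    simpa [A, B, Finset.filter_filter, and_assoc] using this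
  have hsum : ∑ z : G, ((A g⁻¹).filter fun x => zOf u x = z).card =
      ∑ z : G, (B.filter fun x => zOf u x = z).card := by
    rw [← Finset.card_eq_sum_card_fiberwise (f := zOf u) fun x _ => Finset.mem_univ _,
      ← Finset.card_eq_sum_card_fiberwise (f := zOf u) fun x _ => Finset.mem_univ _, hAB]
  have heq := (Finset.sum_eq_sum_iff_of_le fun z _ => hle z).1 hsum (zOf u l') (Finset.mem_univ _)
  have hsub : (A g⁻¹).filter (fun x => zOf u x = zOf u l') ⊆ B.filter (fun x => zOf u x = zOf u l') := by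
    intro x hx
    obtain ⟨hxA, hxz⟩ := Finset.mem_filter.1 hx
    obtain ⟨hxL, -⟩ := (Finset.mem_filter.1 hxA).2
    obtain ⟨h, rfl⟩ := hxL
    have ho : orderOf (h * l * h⁻¹) = 2 := by rw [Invol.order_conj, hl]
    obtain ⟨-, -, hzx⟩ := commute_zOf hu.1 ho
      (even_of_not_conj hu.1 ho (M.not_conj_special hu hls hlns ⟨h, rfl⟩))
    rw [hxz] at hzx
    exact Finset.mem_filter.2 ⟨Finset.mem_filter.2 ⟨Finset.mem_univ _, ⟨h, rfl⟩, hsp.2 _ hzx.symm⟩, hxz⟩
  have hmem : l' ∈ (A g⁻¹).filter fun x => zOf u x = zOf u l' := by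
    rw [Finset.eq_of_subset_of_card_le hsub heq.ge]
    exact Finset.mem_filter.2 ⟨Finset.mem_filter.2 ⟨Finset.mem_univ _, hl', hl's⟩, rfl⟩
  have := (Finset.mem_filter.1 (Finset.mem_filter.1 hmem).1).2.2
  rwa [inv_inv] at this

/-- If some fixed involution is not special, one commutes with a given special one. -/
theorem exists_nonspecial_commute {l0 u : G} (hu : Special s u) (hl : orderOf l0 = 2) (hls : s l0 = l0)
    (hns : ¬ Special s l0) : ∃ l, orderOf l = 2 ∧ s l = l ∧ ¬ Special s l ∧ Commute l u := by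
  by_contra hno
  push Not at hno
  refine Invol.ne_one hl (M.conj_free fun g => ?_)
  have ho : orderOf (g * l0 * g⁻¹) = 2 := by rw [Invol.order_conj, hl]
  obtain ⟨hz, hzu, hzx⟩ := commute_zOf hu.1 ho
    (even_of_not_conj hu.1 ho (M.not_conj_special hu hls hns ⟨g, rfl⟩))
  have hsp : Special s (zOf u (g * l0 * g⁻¹)) := by
    by_contra h
    exact hno _ hz (hu.2 _ hzu) h hzu
  exact hsp.2 _ hzx.symm

/-- An involution centralized by a four group of special involutions is special. -/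
theorem special_of_four {u v l : G} (hu : Special s u) (hv : Special s v) (huv : Special s (u * v))
    (hne : u ≠ v) (hcom : Commute u v) (hl : orderOf l = 2) (hls : s l = l) (hlu : Commute l u)
    (hlv : Commute l v) : Special s l := by
  refine ⟨hl, fun c hc => fix_of_disp M.cop ?_⟩
  obtain ⟨O, -, -, hOn, hOodd, hOd⟩ := M.cent_core hl hls hu hlu
  have hOfix : O ≤ fixed s := by
    refine Cfsg.Agent.CompRank.le_of_centralizers hOodd (b := u) (y := v) (Invol.mul_self hv.1)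
      (Invol.mul_self hu.1) hcom.eq (Invol.ne_one hu.1) (Invol.ne_one hv.1) hne
      (hOn (Subgroup.mem_centralizer_singleton_iff.2 hlv.eq.symm))
      (hOn (Subgroup.mem_centralizer_singleton_iff.2 hlu.eq.symm)) ?_ ?_ ?_
    · exact fun x hx => hu.2 x (Subgroup.mem_centralizer_singleton_iff.1 hx.2)
    · exact fun x hx => hv.2 x (Subgroup.mem_centralizer_singleton_iff.1 hx.2)
    · exact fun x hx => huv.2 x (Subgroup.mem_centralizer_singleton_iff.1 hx.2)
  exact hOfix (hOd c hc)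

/-- In a minimal counterexample every fixed involution is special. -/
theorem special_of_fixed {l0 : G} (hl0 : orderOf l0 = 2) (hl0s : s l0 = l0) : Special s l0 := by
  by_contra hns
  by_cases hpair : ∃ u v, Special s u ∧ Special s v ∧ u ≠ v ∧ Commute u v ∧ ¬ Special s (u * v)
  · obtain ⟨u, v, hu, hv, hne, hcom, huv⟩ := hpair
    have hlo : orderOf (u * v) = 2 := Invol.order_two_of_sq
      (by rw [hcom.symm.mul_mul_mul_comm, Invol.mul_self hu.1, Invol.mul_self hv.1, one_mul])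
      (fun h => hne (by rw [eq_inv_of_mul_eq_one_left h, Invol.inv_self hv.1]))
    refine M.key (l' := u * v) hu hlo (by rw [map_mul, hu.fixes, hv.fixes]) huv hu
      ((Commute.refl u).mul_left hcom.symm) ⟨1, by simp⟩ (by rw [map_mul, hu.fixes, hv.fixes]) ?_
    rw [zOf, ← mul_assoc, Invol.mul_self hu.1, one_mul, hv.1]
    simpa using hv
  · push Not at hpair
    obtain ⟨l, hl, hls, hlns, hlt⟩ := M.exists_nonspecial_commute M.ht hl0 hl0s hns
    haveI : Fact (Nat.Prime 2) := ⟨Nat.prime_two⟩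
    have hlle : Subgroup.zpowers l ≤ Subgroup.normalizer ((Subgroup.zpowers t : Subgroup G) : Set G) :=
      (Subgroup.zpowers_le.2 (Subgroup.mem_centralizer_iff.2 fun y hy => by
        obtain ⟨n, rfl⟩ := Subgroup.mem_zpowers_iff.1 hy
        exact (hlt.zpow_right n).eq.symm)).trans (Subgroup.centralizer_le_normalizer _)
    obtain ⟨R, hQR, hRK⟩ := M.exists_sylow
      ((IsPGroup.of_card (n := 1) (by rw [Nat.card_zpowers, hl, pow_one]) : IsPGroup 2 (Subgroup.zpowers l)).to_sup_of_normal_right'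
        (IsPGroup.of_card (n := 1) (by rw [Nat.card_zpowers, M.ht.1, pow_one]) : IsPGroup 2 (Subgroup.zpowers t)) hlle)
      (sup_le (Subgroup.zpowers_le.2 hls) (Subgroup.zpowers_le.2 M.ht.mem))
    have hlR : l ∈ (R : Subgroup G) := hQR (Subgroup.mem_sup_left (Subgroup.mem_zpowers l))
    obtain ⟨t', ht', htne, htc⟩ := M.exists_pair M.ht
    have htle : Subgroup.zpowers t' ≤ Subgroup.normalizer ((Subgroup.zpowers t : Subgroup G) : Set G) :=
      (Subgroup.zpowers_le.2 (Subgroup.mem_centralizer_iff.2 fun y hy => by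
        obtain ⟨n, rfl⟩ := Subgroup.mem_zpowers_iff.1 hy
        exact (htc.symm.zpow_right n).eq.symm)).trans (Subgroup.centralizer_le_normalizer _)
    obtain ⟨k, hk, hkR⟩ := M.conj_into
      ((IsPGroup.of_card (n := 1) (by rw [Nat.card_zpowers, ht'.1, pow_one]) : IsPGroup 2 (Subgroup.zpowers t')).to_sup_of_normal_right'
        (IsPGroup.of_card (n := 1) (by rw [Nat.card_zpowers, M.ht.1, pow_one]) : IsPGroup 2 (Subgroup.zpowers t)) htle)
      (sup_le (Subgroup.zpowers_le.2 ht'.fixes) (Subgroup.zpowers_le.2 M.ht.mem)) R hRK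
    obtain ⟨u, hu, huR, hlu⟩ : ∃ u, Special s u ∧ u ∈ (R : Subgroup G) ∧ ¬ Commute l u := by
      by_contra hno
      push Not at hno
      have hne : k * t * k⁻¹ ≠ k * t' * k⁻¹ := fun h => htne (mul_left_cancel (mul_right_cancel h)).symm
      have hcc : Commute (k * t * k⁻¹) (k * t' * k⁻¹) := htc.map (MulAut.conj k).toMonoidHom
      exact hlns (M.special_of_four (M.ht.conj hk) (ht'.conj hk) (hpair _ _ (M.ht.conj hk) (ht'.conj hk) hne hcc)
        hne hcc hl hls (hno _ (M.ht.conj hk) (hkR t (Subgroup.mem_sup_right (Subgroup.mem_zpowers t))))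
        (hno _ (ht'.conj hk) (hkR t' (Subgroup.mem_sup_left (Subgroup.mem_zpowers t')))))
    -- the product of `u` and `l` has order a proper power of two
    obtain ⟨n, hn⟩ := R.isPGroup' ⟨u * l, mul_mem huR hlR⟩
    have hpow : (u * l) ^ 2 ^ n = 1 := congrArg Subtype.val hn
    obtain ⟨m, -, hm⟩ := (Nat.dvd_prime_pow Nat.prime_two).1 (orderOf_dvd_of_pow_eq_one hpow)
    have h4 : 4 ∣ orderOf (u * l) := by
      match m, hm with
      | 0, hm =>
        exfalso
        rw [pow_zero, orderOf_eq_one_iff] at hm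
        exact hlu (by rw [eq_inv_of_mul_eq_one_left hm, Invol.inv_self hl])
      | 1, hm =>
        exfalso
        apply hlu
        have h2 := Invol.mul_self (hm.trans (pow_one 2))
        rw [mul_eq_one_iff_eq_inv, mul_inv_rev, Invol.inv_self hl, Invol.inv_self hu.1] at h2
        exact h2.symm
      | m + 2, hm => exact ⟨2 ^ m, by rw [hm]; ring⟩
    have hev : Even (orderOf (u * l)) := even_iff_two_dvd.2 (dvd_trans (by norm_num) h4)
    obtain ⟨d, hd, hde⟩ := Invol.conj_mul_half_of_four_dvd hu.1 hl h4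
    have hdf : s d = d :=
      ((Subgroup.closure_le (fixed s)).2 (by rintro x (rfl | rfl); exacts [hu.mem, hls])) hd
    have huz : Special s (u * zOf u l) := by rw [zOf, ← hde]; exact hu.conj hdf
    obtain ⟨hz, hzu, -⟩ := commute_zOf hu.1 hl hev
    have hs := Invol.mul_half_spec hu.1 hl hev (orderOf_pos _)
    have hsp := hpair _ _ hu huz hs.2.symm hs.1
    rw [← mul_assoc, Invol.mul_self hu.1, one_mul] at hsp
    exact M.key hu hl hls hlns M.ht hlt ⟨1, by simp⟩ hls hsp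

end Min

end Cfsg.Agent.CentInvol
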