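import Cfsg.Agent.Lib.CentInvol.Count

/-!
An automorphism of coprime prime order fixing the centralizer of an involution elementwise acts
trivially modulo the largest normal subgroup of odd order.
-/

set_option autoImplicit false

namespace Cfsg.Agent.CentInvol

open CoprimeHHS

universe u

namespace Min

variable {G : Type*} [Group G] [Finite G] {r : ℕ} {s : MulAut G} {t : G}

/-- There is no minimal counterexample. -/
theorem false (M : Min G r s t) : False := by
  haveI : Fact (Nat.Prime 2) := ⟨Nat.prime_two⟩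
  have hall : ∀ u : G, orderOf u = 2 → s u = u → Special s u := fun u h1 h2 => M.special_of_fixed h1 h2
  have hodd : ∀ u w : G, Special s u → orderOf w = 2 → s w ≠ w → Odd (orderOf (u * w)) := by
    intro u w hu hw hws
    by_contra he
    obtain ⟨hz, hzu, hzw⟩ := commute_zOf hu.1 hw (Nat.not_odd_iff_even.1 he)
    exact hws ((hall _ hz (hu.2 _ hzu)).2 w hzw.symm)
  obtain ⟨g, hg⟩ : ∃ g : G, s g ≠ g := by
    by_contra h
    push Not at h
    exact M.hne (eq_top_iff.2 fun g _ => h g)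
  obtain ⟨w, hw⟩ : ∃ w, w = g * t * g⁻¹ := ⟨_, rfl⟩
  have hwo : orderOf w = 2 := by rw [hw, Invol.order_conj, M.ht.1]
  have hws : s w ≠ w := fun h => hg (M.ht.fix_of_conj M.cop (hw ▸ h))
  -- every special involution is moved to `w` by an involution of the coset `g K`
  have hswap : ∀ u, Special s u → ∃ a k, a * a = 1 ∧ s k = k ∧ a = g * k ∧ a * u * a⁻¹ = w := by
    intro u hu
    obtain ⟨d, hd, hdu⟩ := Invol.conj_of_odd hu.1 hwo (hodd u w hu hwo hws)
    obtain ⟨j, hj⟩ := Invol.mem_closure_pair hu.1 hwo hd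
    obtain ⟨a, ha2, hau⟩ : ∃ a, a * a = 1 ∧ a * u * a⁻¹ = w := by
      refine ⟨(u * w) ^ j * u, Invol.inverted_mul_invol hu.1 (Invol.conj_mul hu.1 hwo) j, ?_⟩
      rcases hj with rfl | rfl
      · conv_rhs => rw [← hdu]
        calc (u * w) ^ j * u * u * ((u * w) ^ j * u)⁻¹
            = (u * w) ^ j * (u * u) * u⁻¹ * ((u * w) ^ j)⁻¹ := by group
          _ = _ := by rw [Invol.mul_self hu.1, Invol.inv_self hu.1, mul_one]
      · exact hdu
    have he : t = g⁻¹ * a * u * (g⁻¹ * a)⁻¹ := by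
      rw [show g⁻¹ * a * u * (g⁻¹ * a)⁻¹ = g⁻¹ * (a * u * a⁻¹) * g by group, hau, hw]; group
    exact ⟨a, g⁻¹ * a, ha2, hu.fix_of_conj M.cop (by rw [← he, M.ht.fixes]), by group, hau⟩
  obtain ⟨a, k, ha2, hk, hak, hat⟩ := hswap t M.ht
  have hai : a⁻¹ = a := inv_eq_of_mul_eq_one_right ha2
  set D := fixed s ⊓ (fixed s).comap (MulAut.conj g⁻¹).toMonoidHom with hD
  have hDmem : ∀ x, x ∈ D ↔ s x = x ∧ s (g⁻¹ * x * g) = g⁻¹ * x * g := fun x => by
    rw [hD, Subgroup.mem_inf, Subgroup.mem_comap]; simp [mem_fixed]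
  have htrans : ∀ u, Special s u → ∃ d ∈ D, d * u * d⁻¹ = t := by
    intro u hu
    obtain ⟨b, k', hb2, hk', hbk, hbu⟩ := hswap u hu
    have hbi : b⁻¹ = b := inv_eq_of_mul_eq_one_right hb2
    refine ⟨a * b, (hDmem _).2 ⟨?_, ?_⟩, ?_⟩
    · have : a * b = k⁻¹ * k' := by
        calc a * b = a⁻¹ * b := by rw [hai]
          _ = k⁻¹ * k' := by rw [hak, hbk]; group
      rw [this, map_mul, map_inv, hk, hk']
    · have : g⁻¹ * (a * b) * g = k * k'⁻¹ := by
        calc g⁻¹ * (a * b) * g = g⁻¹ * (a * b⁻¹) * g := by rw [hbi]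
          _ = k * k'⁻¹ := by rw [hak, hbk]; group
      rw [this, map_mul, map_inv, hk, hk']
    · rw [show a * b * u * (a * b)⁻¹ = a * (b * u * b⁻¹) * a⁻¹ by group, hbu, ← hat, hai]
      simp [mul_assoc, ← mul_assoc a a, ha2]
  have hDi : Inv s D := fun x hx => ((hDmem x).1 hx).1.symm ▸ hx
  have hga : g = a * k⁻¹ := by rw [hak, mul_inv_cancel_right]
  have hDD : ∀ x ∈ D, a * x * a⁻¹ ∈ D := by
    intro x hx
    obtain ⟨hxs, hxg⟩ := (hDmem x).1 hx
    refine (hDmem _).2 ⟨?_, ?_⟩
    · have e : a * x * a⁻¹ = k⁻¹ * (g⁻¹ * x * g) * k := by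
        calc a * x * a⁻¹ = a⁻¹ * x * a := by rw [hai]
          _ = k⁻¹ * (g⁻¹ * x * g) * k := by rw [hak]; group
      rw [e, map_mul, map_mul, map_inv, hk, hxg]
    · have e : g⁻¹ * (a * x * a⁻¹) * g = k * x * k⁻¹ := by rw [hga]; group
      rw [e, map_mul, map_mul, map_inv, hk, hxs]
  have haN : a ∈ Subgroup.normalizer (D : Set G) := by
    rw [Subgroup.mem_normalizer_iff]
    refine fun x => ⟨hDD x, fun hx => ?_⟩
    have := hDD _ hx
    rwa [show a * (a * x * a⁻¹) * a⁻¹ = a * a * x * (a * a)⁻¹ by group, ha2, one_mul, inv_one, mul_one] at this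
  have ha1 : a ≠ 1 := by
    rintro rfl
    rw [one_mul, inv_one, mul_one] at hat
    exact hws (hat ▸ M.ht.fixes)
  -- an invariant Sylow 2-subgroup of `N(D)` contains a fixed involution
  obtain ⟨S, -, hSN, hSi, hSp, hScard⟩ := M.cop.exists_sylow_ge 2 hDi.normalizer (U := ⊥) bot_le IsPGroup.of_bot Inv.bot
  have hS1 : Nontrivial S := by
    rw [← Finite.one_lt_card_iff_nontrivial, hScard]
    have h2 : 2 ∣ Nat.card (Subgroup.normalizer (D : Set G)) :=
      (Invol.order_two_of_sq ha2 ha1) ▸ Subgroup.orderOf_coe (⟨a, haN⟩ : Subgroup.normalizer (D : Set G)) ▸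
        orderOf_dvd_natCard _
    exact Nat.one_lt_pow (Nat.prime_two.factorization_pos_of_dvd Nat.card_pos.ne' h2).ne' (by norm_num)
  haveI := hSp.center_nontrivial
  obtain ⟨⟨z', hz'c⟩, hz'⟩ := exists_prime_orderOf_dvd_card' (G := Subgroup.center S) 2
    (by
      have h1 : 1 < Nat.card (Subgroup.center S) := Finite.one_lt_card
      obtain ⟨j, hj⟩ := IsPGroup.iff_card.1 (hSp.to_subgroup (Subgroup.center S))
      rw [hj] at h1 ⊢
      exact dvd_pow_self 2 (by rintro rfl; simp at h1))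
  obtain ⟨z, hzS⟩ := z'
  rw [← Subgroup.orderOf_coe, ← Subgroup.orderOf_coe] at hz'
  simp only at hz'
  have hzc : ∀ y ∈ S, Commute y z := fun y hy =>
    congrArg Subtype.val (Subgroup.mem_center_iff.1 hz'c ⟨y, hy⟩)
  obtain ⟨e, he⟩ := M.invol_conj hz'
  have hu : Special s (e * z * e⁻¹) := hall _ (by rw [Invol.order_conj, hz']) he
  have hzs : s z = z := by
    have h1 : s (e * s z * e⁻¹) = e * s z * e⁻¹ :=
      hu.2 _ ((hzc (s z) (hSi z hzS)).map (MulAut.conj e).toMonoidHom)
    have h2 : e * s z * e⁻¹ = (e * s e⁻¹) * (e * z * e⁻¹) * (e * s e⁻¹)⁻¹ := by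
      calc e * s z * e⁻¹ = e * s (e⁻¹ * (e * z * e⁻¹) * e) * e⁻¹ := by congr 2; group
        _ = _ := by rw [map_mul, map_mul, he, map_inv]; group
    rw [h2] at h1
    have h3 := hu.fix_of_conj M.cop h1
    have h4 := fix_of_disp M.cop (g := e⁻¹) (by rw [inv_inv]; exact h3)
    rw [map_inv, inv_inj] at h4
    rw [show z = e⁻¹ * (e * z * e⁻¹) * e by group, map_mul, map_mul, map_inv, h4, he]
  have hzN := hSN hzS
  have hzsp := hall z hz' hzs
  -- `D` has odd order
  have hDodd : Odd (Nat.card D) := by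
    by_contra hev
    obtain ⟨⟨x, hxD⟩, hx⟩ := exists_prime_orderOf_dvd_card' (G := D) 2
      (even_iff_two_dvd.1 (Nat.not_odd_iff_even.1 hev))
    rw [← Subgroup.orderOf_coe] at hx
    simp only at hx
    obtain ⟨hxs, hxg⟩ := (hDmem x).1 hxD
    have h1 := (hall x hx hxs).fix_of_conj M.cop (g := g⁻¹) (by rw [inv_inv]; exact hxg)
    rw [map_inv, inv_inj] at h1
    exact hg h1
  -- all special involutions lie in `D z`
  have hcoset : ∀ u, Special s u → u * z ∈ D := by
    intro u hu'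
    obtain ⟨d, hd, hdu⟩ := htrans u hu'
    obtain ⟨d', hd', hdz⟩ := htrans z hzsp
    have hu2 : u = (d⁻¹ * d') * z * (d⁻¹ * d')⁻¹ := by
      rw [show (d⁻¹ * d') * z * (d⁻¹ * d')⁻¹ = d⁻¹ * (d' * z * d'⁻¹) * d by group, hdz, ← hdu]; group
    have hq : d⁻¹ * d' ∈ D := mul_mem (inv_mem hd) hd'
    rw [hu2, mul_assoc _ _ z, mul_assoc (d⁻¹ * d')]
    refine mul_mem hq ?_
    have := (Subgroup.mem_normalizer_iff.1 hzN _).1 (inv_mem hq)
    rwa [Invol.inv_self hz', mul_assoc] at this
  obtain ⟨v, hv, hvne, hvc⟩ := M.exists_pair M.ht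
  have h1 : t * v ∈ D := by
    have := mul_mem (hcoset t M.ht) (inv_mem (hcoset v hv))
    rwa [show t * z * (v * z)⁻¹ = t * v⁻¹ by group, Invol.inv_self hv.1] at this
  have h2 : t * v = 1 := Invol.eq_one_of_sq_of_odd
    (hDodd.of_dvd_nat (Subgroup.orderOf_coe (⟨_, h1⟩ : D) ▸ orderOf_dvd_natCard _))
    (by rw [pow_two, hvc.symm.mul_mul_mul_comm, Invol.mul_self M.ht.1, Invol.mul_self hv.1, one_mul])
  exact hvne (by rw [eq_inv_of_mul_eq_one_right h2, Invol.inv_self M.ht.1])

end Min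

/-- An automorphism of coprime prime order fixing the centralizer of an involution elementwise acts
trivially modulo the odd core. -/
theorem trivial : ∀ (G : Type u) [Group G] [Finite G] (r : ℕ) (s : MulAut G) (t : G),
    Cop r s → Special s t → Trivial G s := by
  intro G _ _
  induction hn : Nat.card G using Nat.strong_induction_on generalizing G with
  | _ n ih =>
  subst hn
  intro r s t hcop ht
  haveI : Fact (Nat.Prime 2) := ⟨Nat.prime_two⟩
  haveI hO : (Cfsg.pPrimeCore 2 G).Normal := FittingCores.pPrimeCore_normal 2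
  set O := Cfsg.pPrimeCore 2 G with hOdef
  have hOodd : Odd (Nat.card O) := Nat.coprime_two_right.1 (FittingCores.pPrimeCore_coprime 2)
  have hti := Invol.inv_self ht.1
  by_cases hbot : O = ⊥
  swap
  · have hOi : Inv s O := by
      intro x hx
      haveI : O.Characteristic := FittingCores.pPrimeCore_characteristic 2
      rw [← Subgroup.characteristic_iff_map_eq.1 ‹O.Characteristic› s]
      exact ⟨x, hx, rfl⟩
    have htO : t ∉ O := fun h => absurd
      (ht.1 ▸ Subgroup.orderOf_coe (⟨t, h⟩ : O) ▸ orderOf_dvd_natCard (⟨t, h⟩ : O))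
      (fun h2 => Nat.not_even_iff_odd.2 hOodd (even_iff_two_dvd.2 h2))
    have hlt : Nat.card (G ⧸ O) < Nat.card G := by
      rw [Subgroup.card_eq_card_quotient_mul_card_subgroup O]
      exact lt_mul_of_one_lt_right Nat.card_pos (Subgroup.one_lt_card_iff_ne_bot _ |>.2 hbot)
    have hsp : Special hOi.qAut (QuotientGroup.mk t : G ⧸ O) := by
      refine ⟨Invol.order_two_of_sq ?_ ?_, fun c hc => ?_⟩
      · rw [← QuotientGroup.mk_mul, Invol.mul_self ht.1, QuotientGroup.mk_one]
      · rw [Ne, QuotientGroup.eq_one_iff]; exact htO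
      obtain ⟨g, rfl⟩ := QuotientGroup.mk_surjective c
      -- `g t g⁻¹` is conjugate to `t` by an element of `O`
      have hmem : g * t * g⁻¹ * t ∈ O := by
        rw [← QuotientGroup.eq_one_iff, QuotientGroup.mk_mul, QuotientGroup.mk_mul, QuotientGroup.mk_mul,
          hc.eq, mul_assoc _ (QuotientGroup.mk g : G ⧸ O), QuotientGroup.mk_inv, mul_inv_cancel, mul_one,
          ← QuotientGroup.mk_mul, Invol.mul_self ht.1, QuotientGroup.mk_one]
      have ho : orderOf (g * t * g⁻¹) = 2 := by rw [Invol.order_conj, ht.1]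
      have hodd : Odd (orderOf (g * t * g⁻¹ * t)) :=
        hOodd.of_dvd_nat (Subgroup.orderOf_coe (⟨_, hmem⟩ : O) ▸ orderOf_dvd_natCard _)
      obtain ⟨d, hd, hdt⟩ := Invol.conj_of_odd ho ht.1 hodd
      obtain ⟨j, hj⟩ := Invol.mem_closure_pair ho ht.1 hd
      have hpO : (g * t * g⁻¹ * t) ^ j ∈ O := zpow_mem hmem j
      obtain ⟨o, hoO, hot⟩ : ∃ o ∈ O, o * (g * t * g⁻¹) * o⁻¹ = t := by
        rcases hj with rfl | rfl
        · exact ⟨_, hpO, hdt⟩
        · refine ⟨_, hpO, ?_⟩
          conv_rhs => rw [← hdt]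
          have hv := Invol.mul_self ho
          generalize (g * t * g⁻¹ * t) ^ j = p
          generalize g * t * g⁻¹ = y at hv ⊢
          calc p * y * p⁻¹ = p * (y * y) * y⁻¹ * p⁻¹ * 1 := by rw [hv, mul_one, mul_one, inv_eq_of_mul_eq_one_right hv]
            _ = p * y * y * (p * y)⁻¹ := by group
      have hfix := ht.2 (o * g) (by
        show o * g * t = t * (o * g)
        calc o * g * t = o * (g * t * g⁻¹) * o⁻¹ * (o * g) := by group
          _ = t * (o * g) := by rw [hot])
      have hmk : (QuotientGroup.mk g : G ⧸ O) = QuotientGroup.mk (o * g) := by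
        rw [QuotientGroup.mk_mul, (QuotientGroup.eq_one_iff o).2 hoO, one_mul]
      rw [hmk, Inv.qAut_mk, hfix]
    have hq := ih _ hlt (G ⧸ O) rfl r hOi.qAut _ (hcop.quot hOi) hsp
    intro g
    have := hq (QuotientGroup.mk g)
    rw [Inv.qAut_mk, ← QuotientGroup.mk_inv, ← QuotientGroup.mk_mul,
      FittingCores.pPrimeCore_quotient_eq_bot (p := 2) O hOdef,
      Subgroup.mem_bot, QuotientGroup.eq_one_iff] at this
    exact this
  intro g
  by_contra hg
  have hK : fixed s ≠ ⊤ := fun h => hg (by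
    rw [show s g = g from (h ▸ Subgroup.mem_top g : g ∈ fixed s), inv_mul_cancel]; exact one_mem _)
  refine Min.false (G := G) (r := r) (s := s) (t := t) ⟨hcop, ht, hOdef ▸ hbot, hK, ?_, ?_⟩
  · intro H hH hHi u huH hu
    have hlt : Nat.card H < Nat.card G :=
      lt_of_le_of_ne (Subgroup.card_le_card_group H) fun h => hH (Subgroup.eq_top_of_card_eq H h)
    have hT := ih _ hlt H rfl r hHi.aut ⟨u, huH⟩ (hcop.sub hHi)
      ⟨by rw [← Subgroup.orderOf_coe]; exact hu.1,
        fun c hc => Subtype.ext (by rw [Inv.aut_apply]; exact hu.2 c (congrArg Subtype.val hc.eq))⟩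
    haveI : (Cfsg.pPrimeCore 2 H).Characteristic := FittingCores.pPrimeCore_characteristic 2
    refine ⟨(Cfsg.pPrimeCore 2 H).map H.subtype, Subgroup.map_subtype_le _, ?_, ?_, ?_, ?_⟩
    · rintro _ ⟨x, hx, rfl⟩
      refine ⟨hHi.aut x, ?_, Inv.aut_apply hHi x⟩
      rw [← Subgroup.characteristic_iff_map_eq.1 ‹(Cfsg.pPrimeCore 2 H).Characteristic› hHi.aut]
      exact ⟨x, hx, rfl⟩
    · exact fun x hx => Subgroup.le_normalizer_map H.subtype ⟨⟨x, hx⟩, Subgroup.le_normalizer_of_normal (Subgroup.mem_top _), rfl⟩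
    · rw [Subgroup.card_map_of_injective H.subtype_injective]
      exact Nat.coprime_two_right.1 (FittingCores.pPrimeCore_coprime 2)
    · intro x hx
      exact ⟨_, hT ⟨x, hx⟩, by simp⟩
  · intro z hz hzc hzs
    have hzi : Inv s (Subgroup.zpowers z) := by
      intro x hx
      obtain ⟨n, rfl⟩ := Subgroup.mem_zpowers_iff.1 hx
      rw [map_zpow, hzs]
      exact hx
    haveI hZn : (Subgroup.zpowers z).Normal :=
      ⟨fun x hx a => by
        have := Subgroup.mem_center_iff.1 (Subgroup.zpowers_le.2 hzc hx) a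
        rwa [this, mul_inv_cancel_right]⟩
    have hZ2 : ∀ x ∈ Subgroup.zpowers z, x = 1 ∨ x = z := by
      intro x hx
      obtain ⟨n, rfl⟩ := Subgroup.mem_zpowers_iff.1 hx
      have hsq : z ^ (2 : ℤ) = 1 := by rw [zpow_two]; exact Invol.mul_self hz
      rcases Int.even_or_odd' n with ⟨m, rfl | rfl⟩
      · left; rw [zpow_mul, hsq, one_zpow]
      · right; rw [zpow_add_one, zpow_mul, hsq, one_zpow, one_mul]
    have htz : t ∉ Subgroup.zpowers z := by
      intro h
      rcases hZ2 t h with h | h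
      · exact Invol.ne_one ht.1 h
      · exact hK (eq_top_iff.2 fun x _ => ht.2 x (by rw [h]; exact Subgroup.mem_center_iff.1 hzc x))
    have hlt : Nat.card (G ⧸ Subgroup.zpowers z) < Nat.card G := by
      rw [Subgroup.card_eq_card_quotient_mul_card_subgroup (Subgroup.zpowers z)]
      exact lt_mul_of_one_lt_right Nat.card_pos (by rw [Nat.card_zpowers, hz]; norm_num)
    have hsp : Special hzi.qAut (QuotientGroup.mk t : G ⧸ Subgroup.zpowers z) := by
      refine ⟨Invol.order_two_of_sq ?_ ?_, fun c hc => ?_⟩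
      · rw [← QuotientGroup.mk_mul, Invol.mul_self ht.1, QuotientGroup.mk_one]
      · rw [Ne, QuotientGroup.eq_one_iff]; exact htz
      obtain ⟨g, rfl⟩ := QuotientGroup.mk_surjective c
      have hmem : g * t * g⁻¹ * t ∈ Subgroup.zpowers z := by
        rw [← QuotientGroup.eq_one_iff, QuotientGroup.mk_mul, QuotientGroup.mk_mul, QuotientGroup.mk_mul,
          hc.eq, mul_assoc _ (QuotientGroup.mk g : G ⧸ Subgroup.zpowers z), QuotientGroup.mk_inv, mul_inv_cancel,
          mul_one, ← QuotientGroup.mk_mul, Invol.mul_self ht.1, QuotientGroup.mk_one]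
      have hfix : s (g * t * g⁻¹) = g * t * g⁻¹ := by
        have e : g * t * g⁻¹ = g * t * g⁻¹ * t * t := by rw [mul_assoc _ t t, Invol.mul_self ht.1, mul_one]
        rcases hZ2 _ hmem with h | h <;> rw [e, h, map_mul, ht.fixes]
        · rw [map_one]
        · rw [hzs]
      rw [Inv.qAut_mk, ht.fix_of_conj hcop hfix]
    have hq := ih _ hlt (G ⧸ Subgroup.zpowers z) rfl r hzi.qAut _ (hcop.quot hzi) hsp
    -- the odd core of the quotient is trivial
    refine hK (eq_top_iff.2 fun x _ => fix_of_disp hcop ?_)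
    set M := (Cfsg.pPrimeCore 2 (G ⧸ Subgroup.zpowers z)).comap (QuotientGroup.mk' (Subgroup.zpowers z)) with hMdef
    have hcM : x⁻¹ * s x ∈ M := by
      have := hq (QuotientGroup.mk x)
      rw [Inv.qAut_mk, ← QuotientGroup.mk_inv, ← QuotientGroup.mk_mul] at this
      exact this
    haveI hMn : M.Normal := (FittingCores.pPrimeCore_normal 2).comap _
    have hqodd : Odd (Nat.card (Cfsg.pPrimeCore 2 (G ⧸ Subgroup.zpowers z))) :=
      Nat.coprime_two_right.1 (FittingCores.pPrimeCore_coprime 2)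
    -- squares of elements of `M` lie in an odd normal subgroup
    haveI : ((Subgroup.zpowers z).subgroupOf M).Normal := hZn.subgroupOf M
    have hzM : Subgroup.zpowers z ≤ M := fun y hy => by
      rw [hMdef, Subgroup.mem_comap, QuotientGroup.mk'_apply, (QuotientGroup.eq_one_iff y).2 hy]
      exact one_mem _
    have hZcard : Nat.card ((Subgroup.zpowers z).subgroupOf M) = 2 := by
      rw [Nat.card_congr (Subgroup.subgroupOfEquivOfLe hzM).toEquiv, Nat.card_zpowers, hz]
    have hidx : Odd ((Subgroup.zpowers z).subgroupOf M).index := by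
      have h1 := Subgroup.relIndex_ker (QuotientGroup.mk' (Subgroup.zpowers z)) (K := M)
      rw [QuotientGroup.ker_mk', Subgroup.relIndex] at h1
      rw [h1]
      exact hqodd.of_dvd_nat (Subgroup.card_dvd_of_le (by rw [hMdef]; exact Subgroup.map_comap_le _ _))
    obtain ⟨Q, hQ⟩ := Subgroup.exists_right_complement'_of_coprime (N := (Subgroup.zpowers z).subgroupOf M)
      (by rw [hZcard]; exact Nat.coprime_two_left.2 hidx)
    have hQidx : Q.index = 2 := by rw [hQ.index_eq_card, hZcard]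
    have hQodd : Odd (Nat.card Q) := by rwa [← hQ.symm.index_eq_card]
    set W := Subgroup.closure {y : G | ∃ m ∈ M, y = m ^ 2} with hW
    have hWn : W.Normal := by
      constructor
      intro y hy a
      induction hy using Subgroup.closure_induction with
      | mem y hy =>
        obtain ⟨m, hm, rfl⟩ := hy
        exact Subgroup.subset_closure ⟨a * m * a⁻¹, hMn.conj_mem m hm a, (conj_pow).symm⟩
      | one => simp
      | mul p q _ _ hp hq => rw [show a * (p * q) * a⁻¹ = a * p * a⁻¹ * (a * q * a⁻¹) by group]; exact mul_mem hp hq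
      | inv p _ hp => rw [show a * p⁻¹ * a⁻¹ = (a * p * a⁻¹)⁻¹ by group]; exact inv_mem hp
    have hWQ : W ≤ Q.map M.subtype := by
      refine (Subgroup.closure_le _).2 ?_
      rintro y ⟨m, hm, rfl⟩
      exact ⟨⟨m, hm⟩ ^ 2, Subgroup.sq_mem_of_index_two hQidx _, rfl⟩
    have hQc : Odd (Nat.card (Q.map M.subtype)) := by
      rw [Subgroup.card_map_of_injective M.subtype_injective]; exact hQodd
    have hWbot : W = ⊥ := le_bot_iff.1 (hbot ▸ hOdef ▸ FittingCores.le_pPrimeCore hWn
      (Nat.coprime_two_right.2 (hQc.of_dvd_nat (Subgroup.card_dvd_of_le hWQ))))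
    have hc2 : (x⁻¹ * s x) ^ 2 = 1 := Subgroup.mem_bot.1 (hWbot ▸ Subgroup.subset_closure ⟨_, hcM, rfl⟩)
    have hcz : x⁻¹ * s x ∈ Subgroup.zpowers z := by
      rw [← QuotientGroup.eq_one_iff]
      refine Invol.eq_one_of_sq_of_odd ?_ (by rw [← QuotientGroup.mk_pow, hc2, QuotientGroup.mk_one])
      exact hqodd.of_dvd_nat (Subgroup.orderOf_coe (⟨_, hcM⟩ : Cfsg.pPrimeCore 2 (G ⧸ Subgroup.zpowers z)) ▸ orderOf_dvd_natCard _)
    rcases hZ2 _ hcz with h | h <;> rw [h]
    · exact map_one s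
    · exact hzs

end Cfsg.Agent.CentInvol
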