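import Cfsg.Agent.Lib.CentInvol.Basic
import Cfsg.Agent.Lib.BrauerSuzuki.ZStar
import Cfsg.Agent.Lib.CompRank.OddInversion

/-!
A minimal counterexample: the fixed points contain a Sylow 2-subgroup, have no nontrivial normal
subgroup of the group, and every special involution commutes with another one.
-/

set_option autoImplicit false

namespace Cfsg.Agent.CentInvol

open CoprimeHHS
open scoped Pointwise

variable {G : Type*} [Group G]

/-- What induction gives for an invariant subgroup: an odd normal part covering with fixed points. -/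
def HasCore (s : MulAut G) (H : Subgroup G) : Prop :=
  ∃ O : Subgroup G, O ≤ H ∧ Inv s O ∧ H ≤ Subgroup.normalizer (O : Set G) ∧ Odd (Nat.card O) ∧
    ∀ x ∈ H, x⁻¹ * s x ∈ O

/-- A minimal counterexample. -/
structure Min (G : Type*) [Group G] [Finite G] (r : ℕ) (s : MulAut G) (t : G) : Prop where
  cop : Cop r s
  ht : Special s t
  hO : Cfsg.pPrimeCore 2 G = ⊥
  hne : fixed s ≠ ⊤
  core : ∀ H : Subgroup G, H ≠ ⊤ → Inv s H → ∀ u ∈ H, Special s u → HasCore s H
  noCenter : ∀ z : G, orderOf z = 2 → z ∈ Subgroup.center G → s z = z → False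

variable [Finite G] {r : ℕ} {s : MulAut G} {t : G}

theorem HasCore.decomp (h : Cop r s) {H O : Subgroup G} (hH : Inv s H) (hOH : O ≤ H) (hOi : Inv s O)
    (hn : H ≤ Subgroup.normalizer (O : Set G)) (hd : ∀ x ∈ H, x⁻¹ * s x ∈ O) {x : G} (hx : x ∈ H) :
    ∃ o ∈ O, ∃ k ∈ H, s k = k ∧ x = o * k := by
  obtain ⟨c, hc, hsc, hxc⟩ := h.exists_fixed hH hOi hOH hn hx (hd x hx)
  refine ⟨x * c⁻¹, ?_, c, hc, hsc, by group⟩
  have := (Subgroup.mem_normalizer_iff.1 (hn hx) _).1 (inv_mem hxc)
  simpa [mul_assoc] using this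

/-- The fixed points in a subgroup covered by an odd subgroup and fixed points have odd index. -/
theorem odd_relIndex {H O : Subgroup G} (hOH : O ≤ H) (hodd : Odd (Nat.card O))
    (hd : ∀ x ∈ H, ∃ o ∈ O, ∃ k ∈ H, s k = k ∧ x = o * k) : Odd ((fixed s).relIndex H) := by
  have heq : MulAction.orbit O ((1 : G) : G ⧸ fixed s) = MulAction.orbit H ((1 : G) : G ⧸ fixed s) := by
    apply Set.eq_of_subset_of_subset
    · rintro _ ⟨o, rfl⟩; exact ⟨⟨o, hOH o.2⟩, rfl⟩
    · rintro _ ⟨⟨x, hx⟩, rfl⟩
      obtain ⟨o, ho, k, -, hk, rfl⟩ := hd x hx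
      refine ⟨⟨o, ho⟩, ?_⟩
      show ((o * 1 : G) : G ⧸ fixed s) = ((o * k * 1 : G) : G ⧸ fixed s)
      rw [QuotientGroup.eq, mul_one, mul_one, inv_mul_cancel_left]
      exact hk
  have hH : (fixed s).relIndex H = Nat.card (MulAction.orbit H ((1 : G) : G ⧸ fixed s)) := by
    rw [Nat.card_coe_set_eq, ← MulAction.index_stabilizer, Subgroup.relIndex]
    congr 1
    ext x
    rw [Subgroup.mem_subgroupOf, MulAction.mem_stabilizer_iff]
    show _ ↔ ((x.1 * 1 : G) : G ⧸ fixed s) = _
    rw [mul_one, QuotientGroup.eq, mul_one, Subgroup.inv_mem_iff]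
  rw [hH, ← heq, Nat.card_coe_set_eq, ← MulAction.index_stabilizer]
  exact hodd.of_dvd_nat (Subgroup.index_dvd_card _)

namespace Min

variable (M : Min G r s t)
include M

theorem eq_one_of_odd_normal {N : Subgroup G} (hn : N.Normal) (h : Odd (Nat.card N)) : N = ⊥ :=
  le_bot_iff.1 (M.hO ▸ Cfsg.Agent.FittingCores.le_pPrimeCore hn (Nat.coprime_two_right.2 h))

/-- The fixed points contain no nontrivial normal subgroup. -/
theorem normal_free {N : Subgroup G} (hn : N.Normal) (hNK : N ≤ fixed s) : N = ⊥ := by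
  by_contra hne
  have hNi : Inv s N := fun x hx => (hNK hx).symm ▸ hx
  set C := Subgroup.centralizer (N : Set G) with hC
  haveI : C.Normal := inferInstance
  have hdC : ∀ g : G, g⁻¹ * s g ∈ C := by
    intro g
    rw [hC, Subgroup.mem_centralizer_iff]
    intro n hn'
    have h2 : s (g * n * g⁻¹) = g * n * g⁻¹ := hNK (hn.conj_mem n hn' g)
    rw [map_mul, map_mul, map_inv, hNK hn'] at h2
    calc n * (g⁻¹ * s g) = g⁻¹ * (g * n * g⁻¹) * s g := by group
      _ = g⁻¹ * (s g * n * (s g)⁻¹) * s g := by rw [h2]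
      _ = g⁻¹ * s g * n := by group
  by_cases hX : C ⊔ Subgroup.zpowers t = ⊤
  · -- `G` is generated by `C` and `t`: a central involution appears in `N`
    have hfix : ∀ e : G, (∀ c ∈ C, Commute c e) → Commute t e → e ∈ Subgroup.center G := by
      intro e he1 he2
      rw [Subgroup.mem_center_iff]
      intro g
      have hg : g ∈ C ⊔ Subgroup.zpowers t := hX ▸ Subgroup.mem_top g
      have hle : C ⊔ Subgroup.zpowers t ≤ Subgroup.centralizer ({e} : Set G) :=
        sup_le (fun c hc => Subgroup.mem_centralizer_singleton_iff.2 (he1 c hc).eq)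
          ((Subgroup.zpowers_le).2 (Subgroup.mem_centralizer_singleton_iff.2 he2.eq))
      exact Subgroup.mem_centralizer_singleton_iff.1 (hle hg)
    have hC1 : ∀ e ∈ N, ∀ c ∈ C, Commute c e := fun e he c hc =>
      (Subgroup.mem_centralizer_iff.1 hc e he).symm
    have hti : t⁻¹ = t := Invol.inv_self M.ht.1
    rcases Nat.even_or_odd (Nat.card (N ⊓ C : Subgroup G)) with hev | hodd
    · obtain ⟨⟨e, heN, heC⟩, he2⟩ :=
        exists_prime_orderOf_dvd_card' (G := ↥(N ⊓ C)) (hp := ⟨Nat.prime_two⟩) 2 (even_iff_two_dvd.1 hev)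
      rw [← Subgroup.orderOf_coe] at he2
      simp only at he2
      have hete : t * e * t ∈ N := by have := hn.conj_mem e heN t; rwa [hti] at this
      have htete : t * e * t ∈ C := by
        have := (inferInstance : C.Normal).conj_mem e heC t; rwa [hti] at this
      have hcom : Commute e (t * e * t) := hC1 _ hete e heC
      have htt := Invol.mul_self M.ht.1
      by_cases hte : t * e * t = e
      · refine M.noCenter e he2 (hfix e (hC1 e heN) ?_) (hNK heN)
        calc t * e = t * e * (t * t) := by rw [htt, mul_one]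
          _ = t * e * t * t := by group
          _ = e * t := by rw [hte]
      · have hee := Invol.mul_self he2
        have hff : t * e * t * (t * e * t) = 1 := by
          simp [mul_assoc, ← mul_assoc t t, htt, ← mul_assoc e e, hee]
        refine M.noCenter (e * (t * e * t)) (Invol.order_two_of_sq ?_ ?_) (hfix _ (hC1 _ (mul_mem heN hete)) ?_)
          (hNK (mul_mem heN hete))
        · rw [mul_assoc, ← mul_assoc (t * e * t) e, ← hcom.eq, mul_assoc e, hff, mul_one, hee]
        · intro h1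
          exact hte (by rw [← one_mul (t * e * t), ← hee, mul_assoc, h1, mul_one])
        · show t * (e * (t * e * t)) = e * (t * e * t) * t
          conv_rhs => rw [hcom.eq]
          group
    · have hbot := M.eq_one_of_odd_normal inferInstance hodd
      haveI : (N ⊓ C).Normal := inferInstance
      have hcos : ∀ g : G, g ∈ C ∨ g * t ∈ C := by
        intro g
        have hg : g ∈ C ⊔ Subgroup.zpowers t := hX ▸ Subgroup.mem_top g
        rw [Subgroup.mem_sup_of_normal_left] at hg
        obtain ⟨c, hc, z, hz, rfl⟩ := hg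
        obtain ⟨n, rfl⟩ := Subgroup.mem_zpowers_iff.1 hz
        have hsq : t ^ (2 : ℤ) = 1 := by rw [zpow_two]; exact Invol.mul_self M.ht.1
        rcases Int.even_or_odd' n with ⟨m, rfl | rfl⟩
        · left; rw [zpow_mul, hsq, one_zpow, mul_one]; exact hc
        · right; rw [zpow_add_one, zpow_mul, hsq, one_zpow, one_mul, mul_assoc, Invol.mul_self M.ht.1, mul_one]; exact hc
      have hone : ∀ a ∈ N, ∀ b ∈ N, a ≠ 1 → b ≠ 1 → a = b := by
        intro a ha b hb ha1 hb1
        have hnot : ∀ e ∈ N, e ≠ 1 → e * t ∈ C := fun e he he1 => (hcos e).resolve_left fun hec =>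
          he1 (Subgroup.mem_bot.1 (hbot ▸ ⟨he, hec⟩))
        have hmem : a * b⁻¹ ∈ C := by
          have := C.mul_mem (hnot a ha ha1) (C.inv_mem (hnot b hb hb1))
          rwa [show a * t * (b * t)⁻¹ = a * b⁻¹ by group] at this
        exact mul_inv_eq_one.1 (Subgroup.mem_bot.1 (hbot ▸ ⟨N.mul_mem ha (N.inv_mem hb), hmem⟩))
      obtain ⟨n, hn', hn1⟩ := (Subgroup.ne_bot_iff_exists_ne_one.1 hne : ∃ a : N, a ≠ 1) |>
        fun ⟨a, ha⟩ => (⟨a.1, a.2, fun h => ha (Subtype.ext h)⟩ : ∃ n ∈ N, n ≠ (1 : G))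
      have hsq : n * n = 1 := by
        by_contra h1
        exact hn1 (mul_eq_left.1 (hone _ (mul_mem hn' hn') n hn' h1 hn1))
      refine M.noCenter n (Invol.order_two_of_sq hsq hn1) (Subgroup.mem_center_iff.2 fun g => ?_) (hNK hn')
      have hc : g * n * g⁻¹ = n := hone _ (hn.conj_mem n hn' g) n hn'
        (fun h => hn1 (by rwa [conj_eq_one_iff] at h)) hn1
      exact mul_inv_eq_iff_eq_mul.1 hc
  · -- the proper subgroup `C⟨t⟩` forces `s = 1`
    have hXi : Inv s (C ⊔ Subgroup.zpowers t) :=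
      (Inv.centralizer hNi).sup fun x hx => by
        obtain ⟨n, rfl⟩ := Subgroup.mem_zpowers_iff.1 hx
        rw [map_zpow, M.ht.fixes]
        exact hx
    obtain ⟨O, hOX, -, hnO, hodd, hd⟩ :=
      M.core _ hX hXi t (Subgroup.mem_sup_right (Subgroup.mem_zpowers t)) M.ht
    have hbot : O ⊓ C = ⊥ := by
      have hnormC : ((O ⊓ C).subgroupOf C).Normal :=
        Subgroup.normal_subgroupOf_of_le_normalizer
          ((le_inf (le_sup_left.trans hnO) Subgroup.le_normalizer).trans
            Subgroup.inf_normalizer_le_normalizer_inf)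
      have h1 : (O ⊓ C).subgroupOf C ≤ Cfsg.pPrimeCore 2 C := by
        refine Cfsg.Agent.FittingCores.le_pPrimeCore hnormC (Nat.coprime_two_right.2 ?_)
        rw [Nat.card_congr (Subgroup.subgroupOfEquivOfLe inf_le_right).toEquiv]
        exact hodd.of_dvd_nat (Subgroup.card_dvd_of_le inf_le_left)
      have h2 := Subgroup.map_mono (f := C.subtype) h1
      rw [Subgroup.map_subgroupOf_eq_of_le inf_le_right] at h2
      exact le_bot_iff.1 (h2.trans (M.hO ▸ Cfsg.Agent.FittingCores.pPrimeCore_map_subtype_le 2 inferInstance))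
    refine M.hne (eq_top_iff.2 fun g _ => fix_of_disp M.cop ?_)
    have hc := hdC g
    have h1 : (g⁻¹ * s g)⁻¹ * s (g⁻¹ * s g) ∈ O ⊓ C :=
      ⟨hd _ (Subgroup.mem_sup_left hc), C.mul_mem (C.inv_mem hc) ((Inv.centralizer hNi) _ hc)⟩
    rw [hbot, Subgroup.mem_bot, inv_mul_eq_one] at h1
    exact h1.symm

theorem conj_free {x : G} (hx : ∀ g : G, s (g * x * g⁻¹) = g * x * g⁻¹) : x = 1 := by
  have h := M.normal_free (N := Subgroup.normalClosure {x}) inferInstance ((Subgroup.closure_le _).2 ?_)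
  · exact Subgroup.mem_bot.1 (h ▸ Subgroup.subset_normalClosure rfl)
  · intro y hy
    obtain ⟨a, ha, hc⟩ := Group.mem_conjugatesOfSet_iff.1 hy
    rw [Set.mem_singleton_iff] at ha
    subst ha
    obtain ⟨g, rfl⟩ := isConj_iff.1 hc
    exact hx g

theorem centralizer_ne_top {z : G} (hz : orderOf z = 2) (hzs : s z = z) :
    Subgroup.centralizer ({z} : Set G) ≠ ⊤ := by
  intro h
  refine M.noCenter z hz (Subgroup.mem_center_iff.2 fun g => ?_) hzs
  exact Subgroup.mem_centralizer_singleton_iff.1 (h ▸ Subgroup.mem_top g)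

theorem inv_centralizer {z : G} (hzs : s z = z) : Inv s (Subgroup.centralizer ({z} : Set G)) := by
  intro x hx
  rw [Subgroup.mem_centralizer_singleton_iff] at hx ⊢
  rw [← hzs, ← map_mul, ← map_mul, hx]

/-- The centralizer of a fixed involution commuting with a special one. -/
theorem cent_core {z u : G} (hz : orderOf z = 2) (hzs : s z = z) (hu : Special s u) (hzu : Commute z u) :
    ∃ O : Subgroup G, O ≤ Subgroup.centralizer {z} ∧ Inv s O ∧
      Subgroup.centralizer {z} ≤ Subgroup.normalizer (O : Set G) ∧ Odd (Nat.card O) ∧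
      ∀ x : G, Commute x z → x⁻¹ * s x ∈ O := by
  obtain ⟨O, h1, h2, h3, h4, h5⟩ := M.core _ (M.centralizer_ne_top hz hzs) (M.inv_centralizer hzs) u
    (Subgroup.mem_centralizer_singleton_iff.2 hzu.symm.eq) hu
  exact ⟨O, h1, h2, h3, h4, fun x hx => h5 x (Subgroup.mem_centralizer_singleton_iff.2 hx.eq)⟩

/-- A Sylow 2-subgroup of the fixed points is one of the group. -/
theorem exists_sylow {Q : Subgroup G} (hQ : IsPGroup 2 Q) (hQK : Q ≤ fixed s) :
    ∃ P : Sylow 2 G, Q ≤ P ∧ (P : Subgroup G) ≤ fixed s := by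
  haveI : Fact (Nat.Prime 2) := ⟨Nat.prime_two⟩
  have hKcard : (Nat.card (fixed s)).factorization 2 = (Nat.card G).factorization 2 := by
    refine le_antisymm ((Nat.factorization_le_iff_dvd Nat.card_pos.ne' Nat.card_pos.ne').2
      (Subgroup.card_subgroup_dvd_card _) 2) ?_
    obtain ⟨R, hR⟩ := IsPGroup.exists_le_sylow (p := 2) (P := (Subgroup.zpowers t).subgroupOf (fixed s))
      (IsPGroup.comap_of_injective (IsPGroup.of_card (n := 1) (by rw [Nat.card_zpowers, M.ht.1, pow_one]))
        (fixed s).subtype (fixed s).subtype_injective)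
    have htR : t ∈ (R : Subgroup (fixed s)).map (fixed s).subtype :=
      ⟨⟨t, M.ht.mem⟩, hR (Subgroup.mem_zpowers t), rfl⟩
    set Pm := (R : Subgroup (fixed s)).map (fixed s).subtype with hPm
    have hcard : Nat.card Pm = 2 ^ (Nat.card (fixed s)).factorization 2 := by
      rw [Subgroup.card_map_of_injective (fixed s).subtype_injective, R.card_eq_multiplicity]
    have hPK : Pm ≤ fixed s := Subgroup.map_subtype_le _
    have hPi : Inv s Pm := fun x hx => (hPK hx).symm ▸ hx
    by_contra hlt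
    have hNne : Subgroup.normalizer (Pm : Set G) ≠ ⊤ := by
      intro htop
      have := M.normal_free (Subgroup.normalizer_eq_top_iff.1 htop) hPK
      rw [this, Subgroup.mem_bot] at htR
      exact Invol.ne_one M.ht.1 htR
    obtain ⟨O, hON, hOi, hnO, hodd, hd⟩ := M.core _ hNne hPi.normalizer t (Subgroup.le_normalizer htR) M.ht
    have hrel := odd_relIndex hON hodd fun x hx => HasCore.decomp M.cop hPi.normalizer hON hOi hnO hd hx
    have hdvdG : 2 ^ ((Nat.card (fixed s)).factorization 2 + 1) ∣ Nat.card G :=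
      (pow_dvd_pow 2 (by omega : (Nat.card (fixed s)).factorization 2 + 1 ≤ (Nat.card G).factorization 2)).trans
        (Nat.ordProj_dvd _ _)
    have h1 := Sylow.prime_pow_dvd_card_normalizer hdvdG hcard
    rw [← Subgroup.card_mul_index ((fixed s).subgroupOf (Subgroup.normalizer (Pm : Set G)))] at h1
    have h2 := Nat.Coprime.dvd_of_dvd_mul_right ((Nat.coprime_two_left.2 hrel).pow_left _) h1
    have hinj : Nat.card ((fixed s).subgroupOf (Subgroup.normalizer (Pm : Set G))) ∣ Nat.card (fixed s) :=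
      Subgroup.card_comap_dvd_of_injective _ _ (Subgroup.subtype_injective _)
    exact Nat.pow_succ_factorization_not_dvd Nat.card_pos.ne' Nat.prime_two (h2.trans hinj)
  obtain ⟨R, hR⟩ := IsPGroup.exists_le_sylow (p := 2) (P := Q.subgroupOf (fixed s))
    (hQ.comap_of_injective (fixed s).subtype (fixed s).subtype_injective)
  refine ⟨Sylow.ofCard ((R : Subgroup (fixed s)).map (fixed s).subtype) ?_, ?_, ?_⟩
  · rw [Subgroup.card_map_of_injective (fixed s).subtype_injective, R.card_eq_multiplicity, hKcard]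
  · intro x hx
    exact ⟨⟨x, hQK hx⟩, hR hx, rfl⟩
  · exact Subgroup.map_subtype_le _

/-- Every 2-subgroup of the fixed points is conjugate by a fixed element into a given Sylow one. -/
theorem conj_into {Q : Subgroup G} (hQ : IsPGroup 2 Q) (hQK : Q ≤ fixed s) (R : Sylow 2 G)
    (hR : (R : Subgroup G) ≤ fixed s) : ∃ k, s k = k ∧ ∀ x ∈ Q, k * x * k⁻¹ ∈ (R : Subgroup G) := by
  haveI : Fact (Nat.Prime 2) := ⟨Nat.prime_two⟩
  obtain ⟨P, hQP, hPK⟩ := M.exists_sylow hQ hQK
  obtain ⟨k, hk⟩ := MulAction.exists_smul_eq (fixed s) (P.subtype hPK) (R.subtype hR)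
  refine ⟨k, k.2, fun x hx => ?_⟩
  have h1 : (MulAut.conj k • ((P.subtype hPK : Sylow 2 (fixed s)) : Subgroup (fixed s))) =
      ((R.subtype hR : Sylow 2 (fixed s)) : Subgroup (fixed s)) := congrArg (fun S : Sylow 2 (fixed s) => (S : Subgroup (fixed s))) hk
  have h2 : MulAut.conj k • (⟨x, hQK hx⟩ : fixed s) ∈
      MulAut.conj k • ((P.subtype hPK : Sylow 2 (fixed s)) : Subgroup (fixed s)) :=
    Subgroup.smul_mem_pointwise_smul _ _ _ (by rw [Sylow.coe_subtype, Subgroup.mem_subgroupOf]; exact hQP hx)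
  rw [h1, Sylow.coe_subtype, Subgroup.mem_subgroupOf] at h2
  exact h2

/-- Every involution is conjugate to a fixed one. -/
theorem invol_conj {z : G} (hz : orderOf z = 2) : ∃ g : G, s (g * z * g⁻¹) = g * z * g⁻¹ := by
  haveI : Fact (Nat.Prime 2) := ⟨Nat.prime_two⟩
  obtain ⟨P, -, hPK⟩ := M.exists_sylow (Q := ⊥) IsPGroup.of_bot bot_le
  obtain ⟨S, hS⟩ := IsPGroup.exists_le_sylow (p := 2) (P := Subgroup.zpowers z)
    (IsPGroup.of_card (n := 1) (by rw [Nat.card_zpowers, hz, pow_one]))
  obtain ⟨g, hg⟩ := MulAction.exists_smul_eq G S P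
  refine ⟨g, hPK ?_⟩
  rw [← hg, Sylow.coe_subgroup_smul]
  exact Subgroup.smul_mem_pointwise_smul z _ _ (hS (Subgroup.mem_zpowers z))

/-- Every special involution commutes with another one. -/
theorem exists_pair {u : G} (hu : Special s u) : ∃ v, Special s v ∧ v ≠ u ∧ Commute u v := by
  by_contra hno
  push Not at hno
  have hiso : Cfsg.IsIsolated u := by
    intro g hg
    by_contra hne
    exact hno _ (hu.of_conj_mem M.cop (hu.2 _ hg.symm)) hne hg
  have hz := Cfsg.Agent.BrauerSuzuki.zStar G u hu.1 hiso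
  refine M.noCenter u hu.1 (Subgroup.mem_center_iff.2 fun g => ?_) hu.fixes
  have := hz g
  rw [M.hO, Subgroup.mem_bot, mul_inv_eq_one, mul_inv_eq_iff_eq_mul] at this
  exact this

end Min

end Cfsg.Agent.CentInvol
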